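import Groth.Agent.Lib.FlatDepth.Depth
import Groth.Agent.Lib.CAlgLow.FlatKrull
import Groth.Agent.Lib.FlatH4.LocCrit
import Mathlib.RingTheory.Regular.RegularSequence
import Mathlib.RingTheory.Regular.Flat

/-! Regular sequences and flatness over a base (EGA IV 11.3.7 type results). -/

open TensorProduct RingTheory.Sequence IsLocalRing
open scoped Pointwise

set_option linter.style.haveILetI false

universe u

namespace Groth.Agent.RegFlat3

variable {A B : Type u} [CommRing A] [CommRing B] [Algebra A B]

noncomputable def quotTakeEquiv (M : Type u) [AddCommGroup M] [Module B M] (x : B) (rs : List B) :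
    (M ⧸ (Ideal.ofList (x :: rs) • (⊤ : Submodule B M))) ≃ₗ[B]
      (QuotSMulTop x M ⧸ (Ideal.ofList rs • (⊤ : Submodule B (QuotSMulTop x M)))) :=
  Submodule.quotOfListConsSMulTopEquivQuotSMulTopInner M x rs

/-- `(M / xM) / I (M / xM)` is `(M / I M) / x (M / I M)`. -/
noncomputable def quotSMulTopQuotEquiv (M : Type u) [AddCommGroup M] [Module B M] (x : B) (I : Ideal B) :
    (QuotSMulTop x M ⧸ (I • (⊤ : Submodule B (QuotSMulTop x M)))) ≃ₗ[B]
      QuotSMulTop x (M ⧸ (I • (⊤ : Submodule B M))) :=
  (Submodule.quotEquivOfEq _ _ (by rw [Submodule.map_smul'', Submodule.map_top, Submodule.range_mkQ])).trans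
    ((Submodule.quotientQuotientEquivQuotientSup (x • (⊤ : Submodule B M)) (I • (⊤ : Submodule B M))).trans
      ((Submodule.quotEquivOfEq _ _ (sup_comm _ _)).trans
        ((Submodule.quotientQuotientEquivQuotientSup (I • (⊤ : Submodule B M)) (x • (⊤ : Submodule B M))).symm.trans
          (Submodule.quotEquivOfEq _ _ (by rw [Submodule.map_pointwise_smul, Submodule.map_top, Submodule.range_mkQ])))))

variable [IsLocalRing A] [IsLocalRing B] [IsLocalHom (algebraMap A B)] [IsNoetherianRing B]

/-- A sequence regular on the closed fibre of a flat module is regular with flat quotients. -/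
theorem regular_flat_of_fibre (fs : List B) : ∀ (M : Type u) [AddCommGroup M] [Module B M] [Module A M]
    [IsScalarTower A B M] [Module.Finite B M] [Module.Flat A M],
    IsWeaklyRegular (M ⧸ ((maximalIdeal A).map (algebraMap A B) • (⊤ : Submodule B M))) fs →
      IsWeaklyRegular M fs ∧ ∀ i ≤ fs.length, Module.Flat A (M ⧸ (Ideal.ofList (fs.take i) • (⊤ : Submodule B M))) := by
  induction fs with
  | nil =>
    intro M _ _ _ _ _ _ _
    refine ⟨IsWeaklyRegular.nil B M, fun i _ => ?_⟩
    exact Module.Flat.of_linearEquiv ((Submodule.quotEquivOfEqBot _ (by simp)).restrictScalars A)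
  | cons x rs ih =>
    intro M _ _ _ _ _ _ h
    rw [isWeaklyRegular_cons_iff] at h
    obtain ⟨hx, hflat⟩ := FlatDepth.regular_flat_of_regular_fibre (R := A) (S := B) (N := M) (x := x)
      ((LinearEquiv.isSMulRegular_congr (FlatDepth.tensorQuotEquiv (S := B) M (maximalIdeal A)) x).2 h.1)
    haveI := hflat
    obtain ⟨h1, h2⟩ := ih (QuotSMulTop x M) (((quotSMulTopQuotEquiv M x _).isWeaklyRegular_congr rs).2 h.2)
    refine ⟨h1.cons hx, fun i hi => ?_⟩
    cases i with
    | zero => exact Module.Flat.of_linearEquiv ((Submodule.quotEquivOfEqBot _ (by simp)).restrictScalars A)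
    | succ i =>
      haveI := h2 i (by simpa using hi)
      exact Module.Flat.of_linearEquiv ((quotTakeEquiv M x (rs.take i)).restrictScalars A)

omit [IsLocalRing A] [IsLocalHom (algebraMap A B)] in
/-- Flatness goes up along a regular sequence. -/
theorem flat_of_flat_last [IsNoetherianRing A] (fs : List B) (hfs : ∀ f ∈ fs, f ∈ maximalIdeal B) :
    ∀ (M : Type u) [AddCommGroup M] [Module B M] [Module A M] [IsScalarTower A B M] [Module.Finite B M],
    IsWeaklyRegular M fs → Module.Flat A (M ⧸ (Ideal.ofList fs • (⊤ : Submodule B M))) → Module.Flat A M := by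
  induction fs with
  | nil =>
    intro M _ _ _ _ _ _ h
    haveI := h
    exact Module.Flat.of_linearEquiv ((Submodule.quotEquivOfEqBot (Ideal.ofList ([] : List B) • (⊤ : Submodule B M)) (by simp)).restrictScalars A).symm
  | cons x rs ih =>
    intro M _ _ _ _ _ hreg h
    rw [isWeaklyRegular_cons_iff] at hreg
    haveI := h
    haveI : Module.Flat A (QuotSMulTop x M) :=
      ih (fun f hf => hfs f (List.mem_cons_of_mem _ hf)) _ hreg.2
        (Module.Flat.of_linearEquiv ((quotTakeEquiv M x rs).restrictScalars A).symm)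
    refine CAlgLow.flat_of_flat_mod_elem x (hfs x List.mem_cons_self) hreg.1 ?_
    exact Module.Flat.of_linearEquiv ((Submodule.quotEquivOfEq _ _ (Submodule.ideal_span_singleton_smul x ⊤)).restrictScalars A)

omit [IsLocalRing A] [IsLocalRing B] [IsLocalHom (algebraMap A B)] [IsNoetherianRing B] [CommRing B] in
/-- Relations along a regular sequence vanish in `M ⊗ J`. -/
theorem lTensor_subtype_injective (M : Type u) [AddCommGroup M] [Module A M] :
    ∀ rs : List A, IsWeaklyRegular M rs → Function.Injective (LinearMap.lTensor M (Ideal.ofList rs).subtype) := by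
  intro rs
  induction rs using List.reverseRecOn with
  | nil =>
    intro _
    haveI : Subsingleton (Ideal.ofList ([] : List A)) := by rw [Ideal.ofList_nil]; infer_instance
    exact Function.injective_of_subsingleton _
  | append_singleton rs f ih =>
    intro h
    rw [isWeaklyRegular_append_iff] at h
    have hf : IsSMulRegular (M ⧸ (Ideal.ofList rs • (⊤ : Submodule A M))) f :=
      ((isWeaklyRegular_singleton_iff _ f).1 h.2)
    have hJ : Ideal.ofList (rs ++ [f]) = Ideal.ofList rs ⊔ Ideal.span {f} := by
      rw [Ideal.ofList_append, Ideal.ofList_singleton]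
    rw [hJ]
    set J' := Ideal.ofList rs
    let ι : J' →ₗ[A] (J' ⊔ Ideal.span {f} : Ideal A) := Submodule.inclusion le_sup_left
    let ff : (J' ⊔ Ideal.span {f} : Ideal A) := ⟨f, le_sup_right (a := J') (Ideal.mem_span_singleton_self f)⟩
    have hdec : ∀ z : M ⊗[A] (J' ⊔ Ideal.span {f} : Ideal A), ∃ w m, z = ι.lTensor M w + m ⊗ₜ ff := by
      intro z
      induction z with
      | zero => exact ⟨0, 0, by simp⟩
      | add a b ha hb =>
        obtain ⟨w, m, rfl⟩ := ha
        obtain ⟨w', m', rfl⟩ := hb
        exact ⟨w + w', m + m', by rw [map_add, TensorProduct.add_tmul]; abel⟩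
      | tmul n j =>
        obtain ⟨j, hj⟩ := j
        obtain ⟨a, ha, b, hb, rfl⟩ := Submodule.mem_sup.1 hj
        obtain ⟨c, rfl⟩ := Ideal.mem_span_singleton'.1 hb
        refine ⟨n ⊗ₜ ⟨a, ha⟩, c • n, ?_⟩
        rw [LinearMap.lTensor_tmul, TensorProduct.smul_tmul, ← TensorProduct.tmul_add]
        rfl
    rw [injective_iff_map_eq_zero]
    intro z hz
    obtain ⟨w, m, rfl⟩ := hdec z
    have e0 : ∀ w : M ⊗[A] J', TensorProduct.rid A M (J'.subtype.lTensor M w) ∈ J' • (⊤ : Submodule A M) := by
      intro w
      induction w with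
      | zero => simp
      | add a b ha hb => simp only [map_add]; exact add_mem ha hb
      | tmul n j => simpa using Submodule.smul_mem_smul j.2 Submodule.mem_top
    have hcomp : (J' ⊔ Ideal.span {f}).subtype ∘ₗ ι = J'.subtype := rfl
    rw [map_add, ← LinearMap.lTensor_comp_apply, hcomp, LinearMap.lTensor_tmul] at hz
    have hz' := congrArg (TensorProduct.rid A M) hz
    rw [map_add, map_zero, TensorProduct.rid_tmul] at hz'
    have hm : m ∈ J' • (⊤ : Submodule A M) := by
      rw [← Submodule.Quotient.mk_eq_zero]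
      refine hf.right_eq_zero_of_smul ?_
      rw [← Submodule.Quotient.mk_smul, Submodule.Quotient.mk_eq_zero, show f • m = - TensorProduct.rid A M (J'.subtype.lTensor M w) from
        eq_neg_of_add_eq_zero_right hz']
      exact neg_mem (e0 w)
    obtain ⟨w', hw'⟩ : ∃ w', ι.lTensor M w' = m ⊗ₜ ff := by
      refine Submodule.smul_induction_on hm (fun a ha n _ => ⟨n ⊗ₜ ⟨a * f, J'.mul_mem_right f ha⟩, ?_⟩) ?_
      · rw [LinearMap.lTensor_tmul, TensorProduct.smul_tmul]; rfl
      · rintro a b ⟨x, hx⟩ ⟨y, hy⟩
        exact ⟨x + y, by rw [map_add, hx, hy, TensorProduct.add_tmul]⟩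
    rw [← hw', ← map_add]
    have h0 : w + w' = 0 := ih h.1 (by
      rw [map_zero, ← hcomp, LinearMap.lTensor_comp_apply, map_add, hw', map_add, LinearMap.lTensor_tmul,
        ← LinearMap.lTensor_comp_apply, hcomp]
      exact hz)
    rw [h0, map_zero]

end Groth.Agent.RegFlat3
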